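import Cfsg.Agent.H521.S8.Eng
import Cfsg.Agent.H511.Ore.Deg

/-!
# S4908: the filter of the degrees from columns of primes (helper521)
-/

set_option autoImplicit false

namespace Cfsg.Agent.H521.S8

open Cfsg Subgroup
open Cfsg.Agent.H653.Sieve Cfsg.Agent.H651.Two Cfsg.Agent.H511.Ore

universe u v

/-- the filter -/
def admB (N m : ℕ) (cd : List CD) (d : ℕ) : Bool :=
  Nat.ble m d && Nat.ble (d * d) N && cd.all fun c => c.wl.any fun rw => Nat.beq (d % c.r) rw.1

theorem adm_of {G : Type u} [Group G] [Finite G] [IsSimpleGroup G] (hG : ¬ IsMulCommutative G) {N : ℕ}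
    (hN : Nat.card G = N) {cd : List CD} (hcd : (cd.all (CD.ok N)) = true) (hx : ∀ d ∈ cd, d.Has G) {m : ℕ}
    (hm : MinDeg G m) : ∀ e ∈ charDegrees G, e = 1 ∨ (e ∣ N ∧ admB N m cd e = true) := by
  rintro e ⟨χ, rfl⟩
  by_cases h1 : (χ : G → ℂ) = 1
  · left
    rw [h1, charDegree]
    simp
  · right
    refine ⟨hN ▸ charDegree_dvd χ, ?_⟩
    rw [admB, Bool.and_eq_true, Bool.and_eq_true]
    refine ⟨⟨Nat.ble_eq_true_of_le (hm χ h1), Nat.ble_eq_true_of_le ?_⟩, ?_⟩
    · have h2 := H424.DegTools.sq_le (G := G) ⟨χ, rfl⟩ ⊥ bot_le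
      rwa [Subgroup.index_bot, hN, pow_two] at h2
    · rw [List.all_eq_true]
      intro c hc
      exact res_of_has hG hN (hx c hc) (List.all_eq_true.1 hcd c hc) χ

theorem adm_congr {G : Type u} {X : Type v} [Group G] [Group X] (e : X ≃* G) {P : ℕ → Prop}
    (h : ∀ d ∈ charDegrees G, P d) : ∀ d ∈ charDegrees X, P d := by
  intro d hd
  exact h d (by rw [← H424.DegTools.charDegrees_congr e]; exact hd)

end Cfsg.Agent.H521.S8
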