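import Cfsg.Agent.H196.S8.Core
import Cfsg.Agent.H704.S8.Defs3
import Cfsg.Agent.H515.S8.End
import Cfsg.Agent.H672.SporIM.RankRows
import Cfsg.Agent.H765.DS.HSMcL
import Cfsg.Agent.H843.IMC.Co1B
import Cfsg.Agent.H843.IMC.Co2A
import Cfsg.Agent.H843.IMC.Co3A
import Cfsg.Agent.H603.FD.Spor
import Cfsg.Agent.H678.DG.HeDegA
import Cfsg.Agent.H678.DG.Tits
import Cfsg.Agent.H3.DS.Fi22Row
import Cfsg.Agent.H707.RowTits
import Cfsg.Agent.H481.EP.Fi22
import Cfsg.Agent.H740.Eight.Tits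
import Cfsg.Agent.H628.Sq.Tits
import Cfsg.Agent.H175.Eight.J1
import Cfsg.Agent.H174.Two.McL
import Cfsg.Agent.NotCT.Orders
import Cfsg.Agent.H417.RecogMathieu

/-!
# S4908: engine for SOC1 (helper521)

`soc1_of` : SOC1 from boolean checks on a filter `ok` of the degrees in `D`.
-/

set_option autoImplicit false
set_option maxRecDepth 100000

namespace Cfsg.Agent.H521.S8

open Cfsg Subgroup
open Cfsg.Agent.H691.AN (AlmostSimple)
open Cfsg.Agent.H704.S8 (Deg Soc1)
open Cfsg.Agent.H196.S8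
open Cfsg.Agent.H653.Sieve (facProd)

universe u v

/-- the sporadic groups in the order of `IsSporadicGroup` -/
def IsoI (S : Type u) [Group S] : ℕ → Prop
  | 0 => Spor.IsoM11 S | 1 => Spor.IsoM12 S | 2 => Spor.IsoM22 S | 3 => Spor.IsoM23 S | 4 => Spor.IsoM24 S
  | 5 => Spor.IsoJ1 S | 6 => Spor.IsoJ2 S | 7 => Spor.IsoJ3 S | 8 => Spor.IsoJ4 S
  | 9 => Spor.IsoCo1 S | 10 => Spor.IsoCo2 S | 11 => Spor.IsoCo3 S | 12 => Spor.IsoMcL S | 13 => Spor.IsoHS S
  | 14 => Spor.IsoSuz S | 15 => Spor.IsoHe S | 16 => Spor.IsoRu S | 17 => Spor.IsoON S | 18 => Spor.IsoLy S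
  | 19 => Spor.IsoFi22 S | 20 => Spor.IsoFi23 S | 21 => Spor.IsoFi24' S
  | 22 => Spor.IsoHN S | 23 => Spor.IsoTh S | 24 => Spor.IsoB S | 25 => Spor.IsoM S
  | _ => False

/-- primes of the order and some degrees -/
def tab : List (List ℕ × List ℕ) := [
  ([11], [10, 16, 45, 55]), ([11], [16, 45, 54, 120]), ([7, 11], [21, 45, 55, 99]), ([7, 11, 23], [45, 230, 896, 1035]),
  ([7, 11, 23], [1035, 1771, 2024, 5796]),
  ([7, 11, 19], [56, 76, 77, 120, 133, 209]), ([7], [36, 63]), ([17, 19], []), ([7, 11, 23, 29, 31, 37, 43], []),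
  ([7, 11, 13, 23], [276, 299]), ([7, 11, 23], [23, 275, 2024]), ([7, 11, 23], [23, 275]),
  ([7, 11], [22, 252, 3520, 4500, 5103]), ([7, 11], [22, 77]), ([7, 11, 13], [780, 1001]), ([7, 17], [680, 1275]),
  ([7, 13, 29], []), ([7, 11, 19, 31], []), ([7, 11, 31, 37, 67], []), ([7, 11, 13], [78, 429, 3080]),
  ([7, 11, 13, 17, 23], [782, 30888]), ([7, 11, 13, 17, 23, 29], []), ([7, 11, 19], []), ([7, 13, 19, 31], []),
  ([7, 11, 13, 17, 19, 23, 31, 47], []), ([7, 11, 13, 17, 19, 23, 29, 31, 41, 47, 59, 71], [])]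

theorem all_of {K : Type*} [Group K] {l : List ℕ} (h : ∀ k ∈ l, k ∈ charDegrees K) : ∀ k ∈ l, k ∈ charDegrees K := h

/-- the data of the table -/
def Has (S : Type u) [Group S] (i : ℕ) : Prop :=
  (∀ p ∈ (tab.getD i ([], [])).1, p ∣ Nat.card S) ∧ ∀ k ∈ (tab.getD i ([], [])).2, k ∈ charDegrees S

theorem pr_of {S : Type u} [Group S] {N : ℕ} {l : List ℕ} (hc : Nat.card S = N) (h : l.all (fun p => Nat.beq (N % p) 0) = true) :
    ∀ p ∈ l, p ∣ Nat.card S := by
  intro p hp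
  rw [hc]
  exact Nat.dvd_of_mod_eq_zero (Nat.eq_of_beq_eq_true (List.all_eq_true.1 h p hp))

variable {S : Type u} [Group S] [Finite S]

theorem has_m11 (h : Spor.IsoM11 S) : Has S 0 := by
  obtain ⟨h1, h2, h3, h4⟩ := H603.FD.Spor.m11 (UGT.End.MEleven.isM11 h)
  refine ⟨pr_of (NotCT.Orders.m11 h) (by decide +kernel), ?_⟩
  simp only [tab, List.getD_cons_zero, List.forall_mem_cons]
  exact ⟨h1, h3, h2, h4, by simp⟩

theorem has_m12 (h : Spor.IsoM12 S) : Has S 1 := by
  obtain ⟨h1, h2, h3, h4⟩ := H603.FD.Spor.m12 (H603.FD.Spor.isM12 h)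
  refine ⟨pr_of (NotCT.Orders.m12 h) (by decide +kernel), ?_⟩
  simp only [tab, List.getD_cons_zero, List.getD_cons_succ, List.forall_mem_cons]
  exact ⟨h1, h2, h3, h4, by simp⟩

theorem has_m22 (h : Spor.IsoM22 S) : Has S 2 := by
  obtain ⟨h1, h2, h3, h4⟩ := H603.FD.Spor.m22 (H417.RecogMathieu.isM22 h)
  refine ⟨pr_of (NotCT.Orders.m22 h) (by decide +kernel), ?_⟩
  simp only [tab, List.getD_cons_zero, List.getD_cons_succ, List.forall_mem_cons]
  exact ⟨h1, h2, h3, h4, by simp⟩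

theorem has_m23 (h : Spor.IsoM23 S) : Has S 3 := by
  obtain ⟨h1, h2, h3, h4⟩ := H603.FD.Spor.m23 (H417.RecogMathieu.isM23 h)
  refine ⟨pr_of (NotCT.Orders.m23 h) (by decide +kernel), ?_⟩
  simp only [tab, List.getD_cons_zero, List.getD_cons_succ, List.forall_mem_cons]
  exact ⟨h2, h1, h4, h3, by simp⟩

theorem has_m24 (h : Spor.IsoM24 S) : Has S 4 := by
  obtain ⟨h1, h2, h3, h4⟩ := H603.FD.Spor.m24 (H417.RecogMathieu.isM24 h)
  refine ⟨pr_of (NotCT.Orders.m24 h) (by decide +kernel), ?_⟩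
  simp only [tab, List.getD_cons_zero, List.getD_cons_succ, List.forall_mem_cons]
  exact ⟨h1, h3, h4, h2, by simp⟩

theorem has_j1 (h : Spor.IsoJ1 S) : Has S 5 := by
  refine ⟨pr_of (NotCT.Orders.j1 h) (by decide +kernel), ?_⟩
  intro k hk
  rw [H175.Eight.mem_j1 h k]
  revert k
  decide

theorem has_j2 (h : Spor.IsoJ2 S) : Has S 6 := by
  refine ⟨pr_of (NotCT.Orders.j2 h) (by decide +kernel), ?_⟩
  simp only [tab, List.getD_cons_zero, List.getD_cons_succ, List.forall_mem_cons]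
  exact ⟨(H672.SporIM.j2 h).2, (H672.SporIM.j2 h).1, by simp⟩

theorem has_j3 (h : Spor.IsoJ3 S) : Has S 7 :=
  ⟨pr_of (NotCT.Orders.j3 h) (by decide +kernel), by simp [tab]⟩

theorem has_j4 (h : Spor.IsoJ4 S) : Has S 8 :=
  ⟨pr_of (NotCT.Orders.j4 h) (by decide +kernel), by simp [tab]⟩

theorem has_co1 (h : Spor.IsoCo1 S) : Has S 9 := by
  refine ⟨pr_of (NotCT.Orders.co1 h) (by decide +kernel), ?_⟩
  obtain ⟨e⟩ := h
  simp only [tab, List.getD_cons_zero, List.getD_cons_succ, List.forall_mem_cons]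
  exact ⟨mem_of_equiv e H843.IMC.Co1B.hasDeg_276, mem_of_equiv e H843.IMC.Co1B.hasDeg_299, by simp⟩

theorem has_co2 (h : Spor.IsoCo2 S) : Has S 10 := by
  refine ⟨pr_of (NotCT.Orders.co2 h) (by decide +kernel), ?_⟩
  obtain ⟨e⟩ := h
  simp only [tab, List.getD_cons_zero, List.getD_cons_succ, List.forall_mem_cons]
  exact ⟨mem_of_equiv e H843.IMC.Co2A.hasDeg_23, mem_of_equiv e H843.IMC.Co2A.hasDeg_2024_275.2,
    mem_of_equiv e H843.IMC.Co2A.hasDeg_2024_275.1, by simp⟩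

theorem has_co3 (h : Spor.IsoCo3 S) : Has S 11 := by
  refine ⟨pr_of (NotCT.Orders.co3 h) (by decide +kernel), ?_⟩
  obtain ⟨e⟩ := h
  simp only [tab, List.getD_cons_zero, List.getD_cons_succ, List.forall_mem_cons]
  exact ⟨mem_of_equiv e H843.IMC.Co3A.hasDeg_23, mem_of_equiv e H843.IMC.Co3A.hasDeg_275, by simp⟩

theorem has_mcl (h : Spor.IsoMcL S) : Has S 12 := by
  refine ⟨pr_of (NotCT.Orders.mcl h) (by decide +kernel), ?_⟩
  obtain ⟨h1, h2, h3⟩ := H174.Two.McL.mcl_deg h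
  simp only [tab, List.getD_cons_zero, List.getD_cons_succ, List.forall_mem_cons]
  exact ⟨mem_of_irr (H765.DS.HSMcL.mcl_22 h), mem_of_irr (H765.DS.HSMcL.mcl_252 h), h1, h2, h3, by simp⟩

theorem has_hs (h : Spor.IsoHS S) : Has S 13 := by
  refine ⟨pr_of (NotCT.Orders.hs h) (by decide +kernel), ?_⟩
  simp only [tab, List.getD_cons_zero, List.getD_cons_succ, List.forall_mem_cons]
  exact ⟨mem_of_irr (H765.DS.HSMcL.hs_22 h), mem_of_irr (H765.DS.HSMcL.hs_77 h), by simp⟩

theorem has_suz (h : Spor.IsoSuz S) : Has S 14 := by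
  refine ⟨pr_of (NotCT.Orders.suz h) (by decide +kernel), ?_⟩
  simp only [tab, List.getD_cons_zero, List.getD_cons_succ, List.forall_mem_cons]
  exact ⟨(H672.SporIM.suz h).2, (H672.SporIM.suz h).1, by simp⟩

theorem has_he (h : Spor.IsoHe S) : Has S 15 := by
  refine ⟨pr_of (NotCT.Orders.he h) (by decide +kernel), ?_⟩
  obtain ⟨e⟩ := h
  simp only [tab, List.getD_cons_zero, List.getD_cons_succ, List.forall_mem_cons]
  exact ⟨mem_of_equiv e H678.DG.HeDegA.deg_680, mem_of_equiv e H678.DG.HeDegA.deg_1275, by simp⟩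

theorem has_ru (h : Spor.IsoRu S) : Has S 16 :=
  ⟨pr_of (NotCT.Orders.ru h) (by decide +kernel), by simp [tab]⟩

theorem has_on (h : Spor.IsoON S) : Has S 17 :=
  ⟨pr_of (NotCT.Orders.on h) (by decide +kernel), by simp [tab]⟩

theorem has_ly (h : Spor.IsoLy S) : Has S 18 :=
  ⟨pr_of (NotCT.Orders.ly h) (by decide +kernel), by simp [tab]⟩

theorem has_fi22 (h : Spor.IsoFi22 S) : Has S 19 := by
  refine ⟨pr_of (NotCT.Orders.fi22 h) (by decide +kernel), ?_⟩
  simp only [tab, List.getD_cons_zero, List.getD_cons_succ, List.forall_mem_cons]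
  have h78 : 78 ∈ charDegrees S := by
    obtain ⟨e⟩ := h
    exact mem_of_equiv e H481.EP.Fi22Row.exists_78
  exact ⟨h78, mem_of_irr (H3.DS.Fi22.exists_deg h).1, mem_of_irr (H3.DS.Fi22.exists_deg h).2, by simp⟩

theorem has_fi23 (h : Spor.IsoFi23 S) : Has S 20 := by
  refine ⟨pr_of (NotCT.Orders.fi23 h) (by decide +kernel), ?_⟩
  simp only [tab, List.getD_cons_zero, List.getD_cons_succ, List.forall_mem_cons]
  exact ⟨(H672.SporIM.fi23 h).2, (H672.SporIM.fi23 h).1, by simp⟩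

theorem has_fi24 (h : Spor.IsoFi24' S) : Has S 21 :=
  ⟨pr_of (NotCT.Orders.fi24 h) (by decide +kernel), by simp [tab]⟩

theorem has_hn (h : Spor.IsoHN S) : Has S 22 :=
  ⟨pr_of (NotCT.Orders.hn h) (by decide +kernel), by simp [tab]⟩

theorem has_th (h : Spor.IsoTh S) : Has S 23 :=
  ⟨pr_of (NotCT.Orders.th h) (by decide +kernel), by simp [tab]⟩

theorem has_b (h : Spor.IsoB S) : Has S 24 :=
  ⟨pr_of (NotCT.Orders.b h) (by decide +kernel), by simp [tab]⟩

theorem has_m (h : Spor.IsoM S) : Has S 25 :=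
  ⟨pr_of (NotCT.Orders.m h) (by decide +kernel), by simp [tab]⟩

/-- the table -/
theorem exists_row (h : IsSporadicGroup S) : ∃ i < 26, IsoI S i ∧ Has S i := by
  rcases h with h | h | h | h | h | h | h | h | h | h | h | h | h | h | h | h | h | h | h | h | h | h | h | h | h | h
  exacts [⟨0, by norm_num, h, has_m11 h⟩, ⟨1, by norm_num, h, has_m12 h⟩, ⟨2, by norm_num, h, has_m22 h⟩,
    ⟨3, by norm_num, h, has_m23 h⟩, ⟨4, by norm_num, h, has_m24 h⟩, ⟨5, by norm_num, h, has_j1 h⟩,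
    ⟨6, by norm_num, h, has_j2 h⟩, ⟨7, by norm_num, h, has_j3 h⟩, ⟨8, by norm_num, h, has_j4 h⟩,
    ⟨9, by norm_num, h, has_co1 h⟩, ⟨10, by norm_num, h, has_co2 h⟩, ⟨11, by norm_num, h, has_co3 h⟩,
    ⟨12, by norm_num, h, has_mcl h⟩, ⟨13, by norm_num, h, has_hs h⟩, ⟨14, by norm_num, h, has_suz h⟩,
    ⟨15, by norm_num, h, has_he h⟩, ⟨16, by norm_num, h, has_ru h⟩, ⟨17, by norm_num, h, has_on h⟩,
    ⟨18, by norm_num, h, has_ly h⟩, ⟨19, by norm_num, h, has_fi22 h⟩, ⟨20, by norm_num, h, has_fi23 h⟩,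
    ⟨21, by norm_num, h, has_fi24 h⟩, ⟨22, by norm_num, h, has_hn h⟩, ⟨23, by norm_num, h, has_th h⟩,
    ⟨24, by norm_num, h, has_b h⟩, ⟨25, by norm_num, h, has_m h⟩]

/-! ### The checks -/

/-- the boolean filter for the degrees `≠ 1` of `D` : `ok1` for `X` -/
def okX (N : ℕ) (ok : ℕ → Bool) (d : ℕ) : Bool := Nat.beq (N % d) 0 && ok d

/-- filter for `D` when `|Out X| = 2` -/
def okD (N : ℕ) (ok : ℕ → Bool) (d : ℕ) : Bool :=
  okX N ok d || (Nat.beq (d % 2) 0 && okX N ok (d / 2))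

/-- `k` and `2 k` are not in `D` -/
def dead (f : ℕ → Bool) (k : ℕ) : Bool := !f k && !f (2 * k)

def deadRow (M : ℕ) (f : ℕ → Bool) (x : List ℕ × List ℕ) : Bool :=
  x.1.any (fun p => !Nat.beq (M % p) 0) || x.2.any (dead f)

section

variable {A : Type u} [Group A] [Finite A] {T : Subgroup A} (hA : AlmostSimple A T) {M : ℕ} {f : ℕ → Bool}
  (hD : ∀ d ∈ charDegrees A, d = 1 ∨ (d ∣ M ∧ f d = true))

include hA hD

theorem pr {p : ℕ} (hp : p.Prime) (hd : p ∣ Nat.card T) : p ∣ M := by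
  obtain ⟨d, h1, h2⟩ := prime_deg hA hp hd
  rcases hD d h1 with h3 | h3
  · rw [h3] at h2
    exact absurd (Nat.dvd_one.1 h2) hp.one_lt.ne'
  · exact h2.trans h3.1

theorem two (hout : Nat.card (Out T) ≤ 2) {a : ℕ} (ha : a ∈ charDegrees T) (h1 : a ≠ 1) (h : dead f a = true) : False := by
  rw [dead, Bool.and_eq_true, Bool.not_eq_true', Bool.not_eq_true'] at h
  rcases two_deg hA hout ha with h2 | h2
  · rcases hD _ h2 with h3 | h3
    · exact h1 h3
    · rw [h3.2] at h; exact absurd h.1 (by decide)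
  · rcases hD _ h2 with h3 | h3
    · omega
    · rw [h3.2] at h; exact absurd h.2 (by decide)

/-- Lie type -/
theorem lie {L : List (ℕ × ℕ)} (hL : ∀ x ∈ L, x.1.Prime) (hLM : facProd L = M) {B : ℕ} (hB : M < 2 ^ B)
    (hpp : ((L.map Prod.fst).all fun r => (List.range B).all fun v => Nat.beq v 0 || !(Nat.beq (M % r ^ v) 0 && f (r ^ v))) = true)
    (hM : 0 < M) {r : ℕ} (hr : r.Prime) (h : IsLieTypeChar r T) : False := by
  obtain ⟨v, hv, h1⟩ := lie_pp hA hr h
  rcases hD _ h1 with h2 | ⟨h2, h3⟩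
  · exact absurd h2 (Nat.one_lt_pow hv.ne' hr.one_lt).ne'
  · have h4 : r ∈ L.map Prod.fst := prime_mem hr L hL (by rw [hLM]; exact (dvd_pow_self r hv.ne').trans h2)
    have h5 : v < B := by
      by_contra hcon
      have h5 : 2 ^ B ≤ r ^ v := (Nat.pow_le_pow_right (by norm_num) (by omega)).trans (Nat.pow_le_pow_left hr.two_le v)
      have h6 := Nat.le_of_dvd hM h2
      omega
    have h6 := List.all_eq_true.1 (List.all_eq_true.1 hpp r h4) v (List.mem_range.2 h5)
    rw [h3, Nat.mod_eq_zero_of_dvd h2] at h6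
    have h7 : Nat.beq v 0 = false := by
      rw [Bool.eq_false_iff]; intro h; have := Nat.eq_of_beq_eq_true h; omega
    rw [h7] at h6
    exact absurd h6 (by decide)

/-- alternating groups -/
theorem alt {L : List (ℕ × ℕ)} (hL : ∀ x ∈ L, x.1.Prime) (hLM : facProd L = M) {B : ℕ} (hB : M < 2 ^ B)
    (hpp : ((L.map Prod.fst).all fun r => (List.range B).all fun v => Nat.beq v 0 || !(Nat.beq (M % r ^ v) 0 && f (r ^ v))) = true)
    (hM : 0 < M) {q : ℕ} (hq : q.Prime) (hq3 : 3 ≤ q) (hqM : ¬ q ∣ M)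
    (hal : (List.range q).all (fun m => Nat.ble m 6 || !f (m - 1)) = true)
    {m : ℕ} (hm : 5 ≤ m) (e : T ≃* alternatingGroup (Fin m)) : False := by
  rcases Nat.lt_or_ge m 7 with h7 | h7
  · have : m = 5 ∨ m = 6 := by omega
    rcases this with rfl | rfl
    · exact lie hA hD hL hLM hB hpp hM (by norm_num) (lie_five e)
    · exact lie hA hD hL hLM hB hpp hM (r := 3) (by norm_num) (H679.isLie_six ⟨e⟩)
  · have h18 : m < q := by
      by_contra hcon
      exact hqM (pr hA hD hq (by rw [Nat.card_congr e.toEquiv]; exact prime_dvd_alt hq hq3 hm (by omega)))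
    have h1 := List.all_eq_true.1 hal m (List.mem_range.2 h18)
    have h2 : Nat.ble m 6 = false := by
      rw [Bool.eq_false_iff]; intro h; have := Nat.le_of_ble_eq_true h; omega
    rcases hD _ (alt_deg hA h7 e) with h3 | h3
    · omega
    · rw [h2, h3.2] at h1
      exact absurd h1 (by decide)

theorem tits (h13 : dead f 78 = true ∨ dead f 27 = true ∨ dead f 675 = true ∨ dead f 650 = true ∨ ¬ 13 ∣ M)
    (h : Lie.IsoTits T) : False := by
  have hout := H489.card_out_tits h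
  rcases h13 with h1 | h1 | h1 | h1 | h1
  · obtain ⟨e⟩ := h
    obtain ⟨f⟩ := H707.RowTits.equiv
    exact two hA hD hout (mem_of_equiv (e.trans f) H678.DG.Tits.deg_78) (by norm_num) h1
  · exact two hA hD hout (H740.Eight.Tits.mem_27 h) (by norm_num) h1
  · exact two hA hD hout (H628.Sq.Tits.mem_675 h) (by norm_num) h1
  · obtain ⟨e⟩ := h
    obtain ⟨f⟩ := H707.RowTits.equiv
    exact two hA hD hout (mem_of_equiv (e.trans f) H678.DG.Tits.deg_650) (by norm_num) h1
  · exact h1 (pr hA hD (by norm_num) (by rw [NotCT.Orders.tits h]; norm_num))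

theorem spor (i₀ : ℕ) (htab : ((List.range 26).all fun i => Nat.beq i i₀ || deadRow M f (tab.getD i ([], []))) = true)
    (h : IsSporadicGroup T) : IsoI T i₀ := by
  have hout := H489.card_out_sporadic h
  obtain ⟨i, hi, h1, h2, h3⟩ := exists_row h
  have h4 := List.all_eq_true.1 htab i (List.mem_range.2 hi)
  rw [Bool.or_eq_true] at h4
  rcases h4 with h4 | h4
  · rwa [← Nat.eq_of_beq_eq_true h4]
  · exfalso
    rw [deadRow, Bool.or_eq_true] at h4
    rcases h4 with h4 | h4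
    · obtain ⟨p, hp, h5⟩ := List.any_eq_true.1 h4
      have hpp : p.Prime := by
        have : ((List.range 26).all fun i => (tab.getD i ([], [])).1.all fun p => decide p.Prime) = true := by
          decide +kernel
        exact of_decide_eq_true (List.all_eq_true.1 (List.all_eq_true.1 this i (List.mem_range.2 hi)) p hp)
      have h6 := pr hA hD hpp (h2 p hp)
      rw [Nat.mod_eq_zero_of_dvd h6] at h5
      exact absurd h5 (by decide)
    · obtain ⟨k, hk, h5⟩ := List.any_eq_true.1 h4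
      have hk1 : k ≠ 1 := by
        rintro rfl
        have : ((List.range 26).all fun i => (tab.getD i ([], [])).2.all fun k => !Nat.beq k 1) = true := by
          decide +kernel
        have h6 := List.all_eq_true.1 (List.all_eq_true.1 this i (List.mem_range.2 hi)) 1 hk
        exact absurd h6 (by decide)
      exact two hA hD hout (h3 k hk) hk1 h5

/-- **the engine** -/
theorem main {L : List (ℕ × ℕ)} (hL : ∀ x ∈ L, x.1.Prime) (hLM : facProd L = M) {B : ℕ} (hB : M < 2 ^ B)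
    (hpp : ((L.map Prod.fst).all fun r => (List.range B).all fun v => Nat.beq v 0 || !(Nat.beq (M % r ^ v) 0 && f (r ^ v))) = true)
    (hM : 0 < M) {q : ℕ} (hq : q.Prime) (hq3 : 3 ≤ q) (hqM : ¬ q ∣ M)
    (hal : (List.range q).all (fun m => Nat.ble m 6 || !f (m - 1)) = true)
    (h13 : dead f 78 = true ∨ dead f 27 = true ∨ dead f 675 = true ∨ dead f 650 = true ∨ ¬ 13 ∣ M)
    (i₀ : ℕ) (htab : ((List.range 26).all fun i => Nat.beq i i₀ || deadRow M f (tab.getD i ([], []))) = true) :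
    IsoI T i₀ := by
  have := hA.simple
  rcases exists_split T hA.nonab with ⟨l, hl, ⟨e⟩⟩ | ⟨r, hr, h⟩ | h | h
  · exact (alt hA hD hL hLM hB hpp hM hq hq3 hqM hal hl e).elim
  · exact (lie hA hD hL hLM hB hpp hM hr h).elim
  · exact (tits hA hD h13 h).elim
  · exact spor hA hD i₀ htab h

end

/-! ### The degrees in `D` -/

/-- the degrees in `D`, `|Out X| ≤ 2` -/
theorem deg_two {X : Type v} [Group X] [Finite X] [IsSimpleGroup X] (hX : ¬ IsMulCommutative X)
    (hi : (MulAut.conj : X →* MulAut X).range.index ≤ 2) {D : Set ℕ} (hD : Deg 2 X D) {d : ℕ} (hd : d ∈ D) :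
    d ∈ charDegrees X ∨ (d ≠ 2 ∧ ∃ e ∈ charDegrees X, d = 2 * e) := by
  rcases hD with rfl | ⟨-, rfl⟩
  · exact Or.inl hd
  · have e := MonoidHom.ofInjective (H515.S8.conj_injective hX)
    have hnt : Nontrivial (MulAut.conj : X →* MulAut X).range := e.symm.toEquiv.nontrivial
    have hs : IsSimpleGroup (MulAut.conj : X →* MulAut X).range :=
      IsSimpleGroup.isSimpleGroup_of_surjective (H := (MulAut.conj : X →* MulAut X).range) e.toMonoidHom e.surjective
    have hna : ¬ IsMulCommutative (MulAut.conj : X →* MulAut X).range := by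
      intro hc
      apply hX
      refine ⟨⟨fun a b => e.injective ?_⟩⟩
      rw [map_mul, map_mul]
      exact hc.is_comm.comm _ _
    obtain ⟨c, hc, h1, h2⟩ := H424.DegTools.clifford_down (MulAut.conj : X →* MulAut X).range hd
    have hc' : c ∈ charDegrees X := by
      rw [H424.DegTools.charDegrees_congr e]; exact hc
    have hpos : 0 < (MulAut.conj : X →* MulAut X).range.index := Nat.pos_of_ne_zero Subgroup.index_ne_zero_of_finite
    have h3 : d / c ≤ 2 := (Nat.le_of_dvd hpos h2).trans hi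
    have h4 : d / c ≠ 0 := by
      intro h0
      rw [h0] at h2
      exact hpos.ne' (zero_dvd_iff.1 h2)
    have h5 : d = d / c * c := (Nat.div_mul_cancel h1).symm
    have h6 : d / c = 1 ∨ d / c = 2 := by
      generalize d / c = t at h3 h4 ⊢
      omega
    rcases h6 with h6 | h6
    · left
      rw [h5, h6, one_mul]; exact hc'
    · right
      refine ⟨?_, c, hc', h5.trans (by rw [h6])⟩
      rintro rfl
      exact H515.S8.two_notMem _ hna hi hd

theorem filt {X : Type v} [Group X] [Finite X] [IsSimpleGroup X] (hX : ¬ IsMulCommutative X)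
    (hi : (MulAut.conj : X →* MulAut X).range.index ≤ 2) {N : ℕ} {ok : ℕ → Bool}
    (hE : ∀ e ∈ charDegrees X, e = 1 ∨ (e ∣ N ∧ ok e = true)) {D : Set ℕ} (hD : Deg 2 X D) {d : ℕ} (hd : d ∈ D) :
    d = 1 ∨ (d ∣ 2 * N ∧ okD N ok d = true) := by
  rcases deg_two hX hi hD hd with h | ⟨h2, e, he, rfl⟩
  · rcases hE d h with h1 | ⟨h1, h3⟩
    · exact Or.inl h1
    · refine Or.inr ⟨h1.mul_left 2, ?_⟩
      rw [okD, okX, h3, Nat.mod_eq_zero_of_dvd h1]
      rfl
  · rcases hE e he with h1 | ⟨h1, h3⟩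
    · exact absurd (by rw [h1]) h2
    · refine Or.inr ⟨Nat.mul_dvd_mul_left 2 h1, ?_⟩
      rw [okD, Nat.mul_mod_right, Nat.mul_div_cancel_left _ (by norm_num : 0 < 2), okX, okX, h3,
        Nat.mod_eq_zero_of_dvd h1]
      simp

end Cfsg.Agent.H521.S8
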