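import Cfsg.Agent.H521.S8.Adm
import Cfsg.Agent.H133.Ore.DegSuz

/-!
# S4908: the row SOC1 of `Suz` (helper521)
-/

set_option autoImplicit false
set_option maxRecDepth 100000

namespace Cfsg.Agent.H521.S8.Suz

open Cfsg Subgroup
open Cfsg.Agent.H653.Sieve Cfsg.Agent.H651.Two Cfsg.Agent.H511.Ore

universe u v

local notation "cdS" => Cfsg.Agent.H133.Ore.Suz.cd

/-- the filter for `Suz` -/
def f : ℕ → Bool := okD 448345497600 (admB 448345497600 110 cdS)

theorem deg {X : Type v} [Group X] (h : Spor.IsoSuz X) :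
    ∀ e ∈ charDegrees X, e = 1 ∨ (e ∣ 448345497600 ∧ admB 448345497600 110 cdS e = true) := by
  obtain ⟨e⟩ := h
  have := H133.Ore.Suz.simple
  have := H133.Ore.Suz.fin
  exact adm_congr e (adm_of H133.Ore.Suz.not_comm H133.Ore.Suz.card H133.Ore.Suz.ok H133.Ore.Suz.has H133.Ore.Suz.minDeg)

def L : List (ℕ × ℕ) := [(2, 14), (3, 7), (5, 2), (7, 1), (11, 1), (13, 1)]

theorem hL : ∀ x ∈ L, x.1.Prime := by
  intro x hx
  simp only [L, List.mem_cons, List.not_mem_nil, or_false] at hx
  rcases hx with rfl | rfl | rfl | rfl | rfl | rfl <;> norm_num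

theorem c1 : ((L.map Prod.fst).all fun r => (List.range 41).all fun v => Nat.beq v 0 ||
    !(Nat.beq (896690995200 % r ^ v) 0 && f (r ^ v))) = true := by decide +kernel

theorem c2 : (List.range 17).all (fun m => Nat.ble m 6 || !f (m - 1)) = true := by decide +kernel

theorem c3 : dead f 27 = true := by decide +kernel

theorem c4 : ((List.range 26).all fun i => Nat.beq i 14 || deadRow 896690995200 f (tab.getD i ([], []))) = true := by
  decide +kernel

/-- the degrees in `D` -/
theorem degD {X : Type v} [Group X] [Finite X] (hX : Spor.IsoSuz X) {D : Set ℕ} (hD : H704.S8.Deg 2 X D) :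
    ∀ d ∈ D, d = 1 ∨ (d ∣ 896690995200 ∧ f d = true) := by
  have hsp : IsSporadicGroup X := by
    unfold IsSporadicGroup
    simp only [hX, true_or, or_true]
  have hdeg := deg hX
  obtain ⟨e⟩ := hX
  have := H133.Ore.Suz.simple
  have hs : IsSimpleGroup X := e.isSimpleGroup
  have hna : ¬ IsMulCommutative X := by
    intro hc
    apply H133.Ore.Suz.not_comm
    refine ⟨⟨fun a b => e.symm.injective ?_⟩⟩
    rw [map_mul, map_mul]
    exact hc.is_comm.comm _ _
  intro d hd
  have h1 := filt hna (H489.card_out_sporadic hsp) hdeg hD hd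
  rwa [show 2 * 448345497600 = 896690995200 by norm_num] at h1

/-- **SOC1 for `Suz`** -/
theorem soc1_iso {X : Type v} [Group X] [Finite X] (hX : Spor.IsoSuz X) {D : Set ℕ} (hD : H704.S8.Deg 2 X D) :
    H704.S8.Soc1.{u} D X := by
  intro A _ _ S hA h
  have h1 := main hA (fun d hd => degD hX hD d (h hd)) hL (show facProd L = 896690995200 by decide +kernel)
    (B := 41) (by norm_num) c1 (by norm_num) (q := 17) (by norm_num) (by norm_num) (by norm_num) c2
    (Or.inr (Or.inl c3)) 14 c4
  obtain ⟨e⟩ := (h1 : Spor.IsoSuz S)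
  obtain ⟨f⟩ := hX
  exact ⟨e.trans f.symm⟩

theorem isoSuz {X : Type u} [Group X] [Finite X] (h : IsSuz X) : Spor.IsoSuz X := by
  have := h.1
  exact H196.S8.real_of_order (x := (.suz, 448345497600, [(2,13),(3,7),(5,2),(7,1),(11,1),(13,1)]))
    (by simp [H403.sporFac]) h.2 (by norm_num) (by norm_num)

/-- **SOC1 for `Suz`** -/
theorem soc1 {X : Type v} [Group X] [Finite X] (hX : Cfsg.IsSuz X) {D : Set ℕ} (hD : H704.S8.Deg 2 X D) :
    H704.S8.Soc1.{u} D X := soc1_iso (isoSuz hX) hD

end Cfsg.Agent.H521.S8.Suz
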